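import Mathlib
import Groth.Prelude.Def_EGA41

/-!
`p`-generators and `p`-bases: monomial decomposition, universal property, derivations, differentials.
-/

set_option autoImplicit false

universe u v

open MvPolynomial

namespace Groth.Agent.PBasisLib

variable (p : ℕ) {A B : Type u} [CommRing A] [CommRing B] [Algebra A B]

lemma pow_mem_pPow (b : B) : b ^ p ∈ EGA41.pPowerSubalgebra p A B :=
  Algebra.subset_adjoin ⟨b, rfl⟩

lemma prod_decomp [Fact p.Prime] {M : Type*} [CommMonoid M] {ι : Type*} (z : ι → M) (e : ι →₀ ℕ) :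
    (e.prod fun i k => z i ^ k) =
      ((e.mapRange (· / p) (Nat.zero_div p)).prod fun i k => (z i ^ p) ^ k) *
        ((e.mapRange (· % p) (Nat.zero_mod p)).prod fun i k => z i ^ k) := by
  classical
  have hs : ∀ g : ℕ → ℕ, ∀ hg : g 0 = 0, (e.mapRange g hg).support ⊆ e.support := fun g hg =>
    Finsupp.support_mapRange
  rw [Finsupp.prod, Finsupp.prod_of_support_subset _ (hs _ _) _ (fun i _ => pow_zero _),
    Finsupp.prod_of_support_subset _ (hs _ _) _ (fun i _ => pow_zero _), ← Finset.prod_mul_distrib]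
  refine Finset.prod_congr rfl fun i _ => ?_
  rw [Finsupp.mapRange_apply, Finsupp.mapRange_apply, ← pow_mul, ← pow_add, Nat.div_add_mod]

lemma mapRange_mod_lt [Fact p.Prime] {ι : Type*} (e : ι →₀ ℕ) (i : ι) :
    e.mapRange (· % p) (Nat.zero_mod p) i < p := by
  rw [Finsupp.mapRange_apply]
  exact Nat.mod_lt _ (Fact.out : p.Prime).pos

lemma pMonomial_mem_adjoin {ι : Type u} (x : ι → B) (e : ι →₀ ℕ) :
    EGA41.pMonomial x e ∈ Algebra.adjoin (EGA41.pPowerSubalgebra p A B) (Set.range x) :=
  Subalgebra.prod_mem _ fun i _ => Subalgebra.pow_mem _ (Algebra.subset_adjoin (Set.mem_range_self i)) _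

lemma mem_span_reduced [Fact p.Prime] {S Q : Type*} [CommRing S] [CommRing Q] [Algebra S Q] {ι : Type*}
    (z : ι → Q) (hz : ∀ i, z i ^ p ∈ (⊥ : Subalgebra S Q)) (P : MvPolynomial ι S) :
    aeval z P ∈ Submodule.span S
      (Set.range fun e : {e : ι →₀ ℕ // ∀ i, e i < p} => e.1.prod fun i k => z i ^ k) := by
  induction P using MvPolynomial.induction_on' with
  | monomial e c =>
    rw [MvPolynomial.aeval_monomial, ← Algebra.smul_def, prod_decomp p z e]
    have hc : ((e.mapRange (· / p) (Nat.zero_div p)).prod fun i k => (z i ^ p) ^ k) ∈ (⊥ : Subalgebra S Q) :=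
      Subalgebra.prod_mem _ fun i _ => Subalgebra.pow_mem _ (hz i) _
    obtain ⟨c', hc'⟩ := Algebra.mem_bot.mp hc
    rw [← hc', ← Algebra.smul_def]
    refine Submodule.smul_mem _ _ (Submodule.smul_mem _ _ ?_)
    exact Submodule.subset_span (Set.mem_range_self
      (f := fun e : {e : ι →₀ ℕ // ∀ i, e i < p} => e.1.prod fun i k => z i ^ k) ⟨_, mapRange_mod_lt p e⟩)
  | add P Q hP hQ => rw [map_add]; exact Submodule.add_mem _ hP hQ

lemma pow_mem_bot (b : B) :
    b ^ p ∈ (⊥ : Subalgebra (EGA41.pPowerSubalgebra p A B) B) :=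
  Algebra.mem_bot.mpr ⟨⟨_, pow_mem_pPow p b⟩, rfl⟩

lemma span_eq_adjoin [Fact p.Prime] {ι : Type u} (x : ι → B) :
    Submodule.span (EGA41.pPowerSubalgebra p A B)
        (Set.range fun e : {e : ι →₀ ℕ // ∀ i, e i < p} => EGA41.pMonomial x e.1) =
      (Algebra.adjoin (EGA41.pPowerSubalgebra p A B) (Set.range x)).toSubmodule := by
  refine le_antisymm (Submodule.span_le.mpr ?_) fun b hb => ?_
  · rintro _ ⟨e, rfl⟩
    exact pMonomial_mem_adjoin p x e.1
  · rw [Subalgebra.mem_toSubmodule, Algebra.adjoin_range_eq_range_aeval] at hb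
    obtain ⟨P, rfl⟩ := hb
    exact mem_span_reduced p x (fun i => pow_mem_bot p (x i)) P

lemma isPGenerating_iff [Fact p.Prime] {ι : Type u} (x : ι → B) :
    EGA41.IsPGenerating p A x ↔ Algebra.adjoin (EGA41.pPowerSubalgebra p A B) (Set.range x) = ⊤ := by
  rw [EGA41.IsPGenerating, span_eq_adjoin]
  exact Algebra.toSubmodule_eq_top

lemma ringHom_ext [Fact p.Prime] {ι : Type u} {x : ι → B} (hx : EGA41.IsPGenerating p A x) {E : Type*}
    [CommRing E] {f g : B →+* E} (h1 : ∀ c : EGA41.pPowerSubalgebra p A B, f c = g c)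
    (h2 : ∀ i, f (x i) = g (x i)) : f = g := by
  refine RingHom.ext fun b => ?_
  have hb : b ∈ Algebra.adjoin (EGA41.pPowerSubalgebra p A B) (Set.range x) := by
    rw [(isPGenerating_iff p x).mp hx]; trivial
  induction hb using Algebra.adjoin_induction with
  | mem _ h => obtain ⟨i, rfl⟩ := h; exact h2 i
  | algebraMap c => exact h1 c
  | add _ _ _ _ ha hb => rw [map_add, map_add, ha, hb]
  | mul _ _ _ _ ha hb => rw [map_mul, map_mul, ha, hb]

/-- The universal property of a `p`-basis, over an abstract base ring. -/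
theorem existsUnique_ringHom_aux [Fact p.Prime] {S Q E : Type*} [CommRing S] [CommRing Q] [CommRing E]
    [Algebra S Q] {ι : Type*} (x : ι → Q) (a : ι → S) (ha : ∀ i, x i ^ p = algebraMap S Q (a i))
    (hli : LinearIndependent S fun e : {e : ι →₀ ℕ // ∀ i, e i < p} => e.1.prod fun i k => x i ^ k)
    (hgen : Algebra.adjoin S (Set.range x) = ⊤) (φ : S →+* E) (z : ι → E) (hz : ∀ i, z i ^ p = φ (a i)) :
    ∃! v : Q →+* E, (∀ c : S, v (algebraMap S Q c) = φ c) ∧ ∀ i, v (x i) = z i := by
  classical
  let J : Ideal (MvPolynomial ι S) := Ideal.span (Set.range fun i => X i ^ p - C (a i))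
  let T := {e : ι →₀ ℕ // ∀ i, e i < p}
  have hsurj : Function.Surjective (aeval x : MvPolynomial ι S →ₐ[S] Q) := fun b => by
    have hb : b ∈ Algebra.adjoin S (Set.range x) := by rw [hgen]; trivial
    rw [Algebra.adjoin_range_eq_range_aeval] at hb
    exact hb
  have hJ : RingHom.ker (aeval x : MvPolynomial ι S →ₐ[S] Q) ≤ J := by
    intro q hq
    have h2 : ∀ i, Ideal.Quotient.mk J (X i) ^ p ∈ (⊥ : Subalgebra S (MvPolynomial ι S ⧸ J)) := fun i => by
      refine Algebra.mem_bot.mpr ⟨a i, ?_⟩
      rw [← map_pow]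
      exact (Ideal.Quotient.eq.mpr (Ideal.subset_span (Set.mem_range_self (f := fun i => X i ^ p - C (a i)) i))).symm
    have h1 := mem_span_reduced p (fun i => Ideal.Quotient.mk J (X i)) h2 q
    have h3 : aeval (fun i => Ideal.Quotient.mk J (X i)) q = Ideal.Quotient.mk J q :=
      (DFunLike.congr_fun (MvPolynomial.aeval_unique (Ideal.Quotient.mkₐ S J)) q).symm
    rw [h3, Finsupp.mem_span_range_iff_exists_finsupp] at h1
    obtain ⟨l, hl⟩ := h1
    let P : MvPolynomial ι S := l.sum fun e c => c • e.1.prod fun i k => X i ^ k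
    have hP : Ideal.Quotient.mk J P = Ideal.Quotient.mk J q := by
      rw [← hl, map_finsuppSum]
      refine Finsupp.sum_congr fun e _ => ?_
      rw [Algebra.smul_def, Algebra.smul_def, map_mul, map_finsuppProd]
      simp only [map_pow]
      rfl
    have hle : ∀ r ∈ J, aeval x r = 0 := fun r hr => by
      induction hr using Submodule.span_induction with
      | mem r hr =>
        obtain ⟨i, rfl⟩ := hr
        simp [ha i]
      | zero => simp
      | add r r' _ _ h1 h2 => simp [h1, h2]
      | smul c r _ h => simp [h]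
    have h0 : aeval x P = 0 := by
      have h4 := hle _ (Ideal.Quotient.eq.mp hP)
      rwa [map_sub, show aeval x q = 0 from hq, sub_zero] at h4
    have hl0 : l = 0 := by
      refine linearIndependent_iff.mp hli l ?_
      rw [← h0, map_finsuppSum, Finsupp.linearCombination_apply]
      refine Finsupp.sum_congr fun e _ => ?_
      simp [map_finsuppProd]
    have hP0 : P = 0 := by simp [P, hl0]
    rw [hP0, map_zero] at hP
    exact Ideal.Quotient.eq_zero_iff_mem.mp hP.symm
  have hw : ∀ q ∈ RingHom.ker (aeval x : MvPolynomial ι S →ₐ[S] Q), eval₂Hom φ z q = 0 := fun q hq => by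
    have := hJ hq
    clear hq
    induction this using Submodule.span_induction with
    | mem r hr =>
      obtain ⟨i, rfl⟩ := hr
      simp [hz i]
    | zero => simp
    | add r r' _ _ h1 h2 => rw [map_add, h1, h2, add_zero]
    | smul c r _ h => rw [smul_eq_mul, map_mul, h, mul_zero]
  let v : Q →+* E := RingHom.liftOfSurjective (aeval x : MvPolynomial ι S →ₐ[S] Q).toRingHom hsurj
    ⟨eval₂Hom φ z, fun q hq => hw q hq⟩
  have hv : ∀ q, v (aeval x q) = eval₂Hom φ z q := fun q =>
    RingHom.liftOfRightInverse_comp_apply _ _ _ _ q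
  refine ⟨v, ⟨fun c => ?_, fun i => ?_⟩, fun v' hv' => RingHom.ext fun b => ?_⟩
  · rw [← MvPolynomial.aeval_C x c, hv]
    simp
  · rw [← MvPolynomial.aeval_X (R := S) x i, hv]
    simp
  · obtain ⟨q, rfl⟩ := hsurj b
    rw [hv]
    induction q using MvPolynomial.induction_on with
    | C c => simp [hv'.1]
    | add f g hf hg => rw [map_add, map_add, map_add, hf, hg]
    | mul_X f i hf => rw [map_mul, map_mul, map_mul, hf, MvPolynomial.aeval_X, hv'.2]; simp

/-- The universal property of a `p`-basis. -/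
theorem existsUnique_ringHom [Fact p.Prime] {ι : Type u} {x : ι → B} (hx : EGA41.IsPBasis p A x) {E : Type*}
    [CommRing E] (φ : EGA41.pPowerSubalgebra p A B →+* E) (z : ι → E)
    (hz : ∀ i, z i ^ p = φ ⟨x i ^ p, pow_mem_pPow p _⟩) :
    ∃! v : B →+* E, (∀ c : EGA41.pPowerSubalgebra p A B, v c = φ c) ∧ ∀ i, v (x i) = z i :=
  existsUnique_ringHom_aux p x (fun i => ⟨x i ^ p, pow_mem_pPow p _⟩) (fun _ => rfl) hx.1
    ((isPGenerating_iff p x).mp hx.2) φ z hz

section Derivation

variable [Fact p.Prime] [CharP B p] {L : Type v} [AddCommGroup L] [Module B L]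

lemma derivation_pow {R : Type*} [CommRing R] [Algebra R B] [Module R L] (D : Derivation R B L) (b : B) :
    D (b ^ p) = 0 := by
  rw [Derivation.leibniz_pow, ← Nat.cast_smul_eq_nsmul B, CharP.cast_eq_zero, zero_smul]

omit [CharP B p] in
lemma derivation_ext {R : Type*} [CommRing R] [Algebra R B] [Module R L] {ι : Type u} {x : ι → B}
    (hx : EGA41.IsPGenerating p A x) {D D' : Derivation R B L}
    (h1 : ∀ c : EGA41.pPowerSubalgebra p A B, D c = D' c) (h2 : ∀ i, D (x i) = D' (x i)) : D = D' := by
  refine Derivation.ext fun b => ?_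
  have hb : b ∈ Algebra.adjoin (EGA41.pPowerSubalgebra p A B) (Set.range x) := by
    rw [(isPGenerating_iff p x).mp hx]; trivial
  induction hb using Algebra.adjoin_induction with
  | mem _ h => obtain ⟨i, rfl⟩ := h; exact h2 i
  | algebraMap c => exact h1 c
  | add _ _ _ _ ha hb => rw [map_add, map_add, ha, hb]
  | mul _ _ _ _ ha hb => rw [Derivation.leibniz, Derivation.leibniz, ha, hb]

/-- Derivations of a ring with a `p`-basis can be prescribed on the basis. -/
theorem exists_derivation {ι : Type u} {x : ι → B} (hx : EGA41.IsPBasis p A x)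
    (δ : EGA41.pPowerSubalgebra p A B →+ L)
    (hmul : ∀ c d : EGA41.pPowerSubalgebra p A B, δ (c * d) = (c : B) • δ d + (d : B) • δ c)
    (hpow : ∀ i, δ ⟨x i ^ p, pow_mem_pPow p _⟩ = 0) (y : ι → L) :
    ∃ D : Derivation ℤ B L, (∀ c : EGA41.pPowerSubalgebra p A B, D c = δ c) ∧ ∀ i, D (x i) = y i := by
  letI : Module Bᵐᵒᵖ L := Module.compHom L (
    (RingHom.id B).fromOpposite mul_comm)
  haveI : IsCentralScalar B L := ⟨fun _ _ => rfl⟩
  have h1 : δ 1 = 0 := by
    have h := hmul 1 1
    simp only [mul_one, OneMemClass.coe_one, one_smul] at h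
    exact left_eq_add.mp h
  let φ : EGA41.pPowerSubalgebra p A B →+* TrivSqZeroExt B L :=
    { toFun := fun c => (TrivSqZeroExt.inl (c : B) + TrivSqZeroExt.inr (δ c))
      map_one' := by ext <;> simp [h1]
      map_mul' := fun c d => by
        ext
        · simp
        · simp [hmul]
      map_zero' := by ext <;> simp
      map_add' := fun c d => by ext <;> simp }
  obtain ⟨v, ⟨hv1, hv2⟩, -⟩ := existsUnique_ringHom p hx φ
    (fun i => TrivSqZeroExt.inl (x i) + TrivSqZeroExt.inr (y i)) (fun i => by
      ext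
      · simp [φ]
      · simp [φ, hpow i, TrivSqZeroExt.snd_pow, ← Nat.cast_smul_eq_nsmul B, CharP.cast_eq_zero B p])
  have hfst : ∀ b, (v b).fst = b := fun b => by
    have h : (TrivSqZeroExt.fstHom B B L).toRingHom.comp v = RingHom.id B := by
      refine ringHom_ext p hx.2 (fun c => ?_) fun i => ?_
      · simp [hv1, φ]
      · simp [hv2]
    exact RingHom.congr_fun h b
  let D₀ : B →ₗ[ℤ] L :=
    ({ toFun := fun b => (v b).snd
       map_zero' := by simp
       map_add' := fun a b => by simp } : B →+ L).toIntLinearMap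
  refine ⟨Derivation.mk' D₀ fun a b => ?_, fun c => ?_, fun i => ?_⟩
  · show (v (a * b)).snd = a • (v b).snd + b • (v a).snd
    rw [map_mul, TrivSqZeroExt.snd_mul, hfst, hfst, op_smul_eq_smul]
  · show (v (c : B)).snd = δ c
    simp [hv1, φ]
  · show (v (x i)).snd = y i
    simp [hv2]

/-- `A`-derivations of a ring with a `p`-basis can be prescribed on the basis. -/
theorem exists_derivation_base [Module A L] [IsScalarTower A B L] {ι : Type u} {x : ι → B}
    (hx : EGA41.IsPBasis p A x) (y : ι → L) : ∃ D : Derivation A B L, ∀ i, D (x i) = y i := by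
  obtain ⟨D, hD0, hD⟩ := exists_derivation p hx (0 : _ →+ L) (fun _ _ => by simp) (fun _ => rfl) y
  have hA : ∀ a : A, D (algebraMap A B a) = 0 := fun a => hD0 ⟨_, Subalgebra.algebraMap_mem _ a⟩
  let Dl : B →ₗ[A] L :=
    { toFun := fun b => D b
      map_add' := fun a b => map_add D a b
      map_smul' := fun a b => by
        rw [Algebra.smul_def, Derivation.leibniz, hA, smul_zero, add_zero, algebraMap_smul,
          RingHom.id_apply] }
  exact ⟨Derivation.mk' Dl fun a b => D.leibniz a b, hD⟩

lemma derivation_pPow [Module A L] [IsScalarTower A B L] (D : Derivation A B L)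
    (c : EGA41.pPowerSubalgebra p A B) : D c = 0 := by
  obtain ⟨c, hc⟩ := c
  induction hc using Algebra.adjoin_induction with
  | mem _ h => obtain ⟨b, rfl⟩ := h; exact derivation_pow p D b
  | algebraMap a => exact D.map_algebraMap a
  | add _ _ _ _ ha hb => simp [ha, hb]
  | mul _ _ _ _ ha hb => simp [Derivation.leibniz, ha, hb]

/-- The differentials of `p`-generators generate. -/
theorem span_D_eq_top {ι : Type u} {x : ι → B} (hx : EGA41.IsPGenerating p A x) :
    Submodule.span B (Set.range fun i => KaehlerDifferential.D A B (x i)) = ⊤ := by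
  rw [← top_le_iff, ← KaehlerDifferential.span_range_derivation, Submodule.span_le]
  rintro _ ⟨b, rfl⟩
  have hb : b ∈ Algebra.adjoin (EGA41.pPowerSubalgebra p A B) (Set.range x) := by
    rw [(isPGenerating_iff p x).mp hx]; trivial
  induction hb using Algebra.adjoin_induction with
  | mem _ h => obtain ⟨i, rfl⟩ := h; exact Submodule.subset_span ⟨i, rfl⟩
  | algebraMap c =>
    show KaehlerDifferential.D A B (c : B) ∈ _
    rw [derivation_pPow p]
    exact Submodule.zero_mem _
  | add _ _ _ _ ha hb => rw [map_add]; exact Submodule.add_mem _ ha hb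
  | mul _ _ _ _ ha hb =>
    rw [Derivation.leibniz]
    exact Submodule.add_mem _ (Submodule.smul_mem _ _ hb) (Submodule.smul_mem _ _ ha)

/-- The differentials of a `p`-basis form a basis. -/
theorem exists_basis_D {ι : Type u} {x : ι → B} (hx : EGA41.IsPBasis p A x) :
    ∃ b : Module.Basis ι B (Ω[B⁄A]), ∀ i, b i = KaehlerDifferential.D A B (x i) := by
  classical
  obtain ⟨D, hD⟩ := exists_derivation_base (A := A) p hx fun i => (Finsupp.single i (1 : B))
  have hli : LinearIndependent B fun i => KaehlerDifferential.D A B (x i) := by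
    refine LinearIndependent.of_comp D.liftKaehlerDifferential ?_
    have : D.liftKaehlerDifferential ∘ (fun i => KaehlerDifferential.D A B (x i)) =
        fun i => Finsupp.single i (1 : B) := funext fun i => by
      simp [Derivation.liftKaehlerDifferential_comp_D, hD]
    rw [this]
    exact Finsupp.linearIndependent_single_one B ι
  exact ⟨Module.Basis.mk hli (span_D_eq_top p hx.2).ge, fun i => Module.Basis.mk_apply _ _ i⟩

end Derivation

lemma isPIndependent_comp [Fact p.Prime] {ι ι' : Type u} {x : ι → B} (hx : EGA41.IsPIndependent p A x)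
    {f : ι' → ι} (hf : Function.Injective f) : EGA41.IsPIndependent p A (x ∘ f) := by
  have hp : ∀ e : {e : ι' →₀ ℕ // ∀ i, e i < p}, ∀ i, Finsupp.mapDomain f e.1 i < p := fun e i => by
    by_cases hi : i ∈ Set.range f
    · obtain ⟨j, rfl⟩ := hi
      rw [Finsupp.mapDomain_apply hf]
      exact e.2 j
    · rw [Finsupp.mapDomain_notin_range _ _ hi]
      exact (Fact.out : p.Prime).pos
  have := hx.comp (fun e : {e : ι' →₀ ℕ // ∀ i, e i < p} => (⟨_, hp e⟩ : {e : ι →₀ ℕ // ∀ i, e i < p}))
    (fun a b h => Subtype.ext (Finsupp.mapDomain_injective hf (congrArg Subtype.val h)))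
  unfold EGA41.IsPIndependent
  convert this using 1
  funext e
  simp [EGA41.pMonomial, Finsupp.prod_mapDomain_index_inj hf]

end Groth.Agent.PBasisLib
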