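import Mathlib
import Groth.Prelude.Def_EGA41
import Groth.Agent.PBasisLib.Basic

/-!
`p`-bases of field extensions.
-/

set_option autoImplicit false

universe u

open Polynomial

namespace Groth.Agent.PBasisLib

variable (p : ℕ) [Fact p.Prime] {A K : Type u} [CommRing A] [Field K] [Algebra A K] [CharP K p]

omit [CharP K p] in
lemma inv_mem_of_pPow_le {C : Subalgebra (EGA41.pPowerSubalgebra p A K) K} {b : K} (hb : b ∈ C) : b⁻¹ ∈ C := by
  rcases eq_or_ne b 0 with rfl | h0
  · simpa using C.zero_mem
  · have h1 : b⁻¹ = b ^ (p - 1) * (b⁻¹) ^ p := by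
      have hp := (Fact.out : p.Prime).pos
      rw [inv_pow, ← div_eq_mul_inv, eq_div_iff (pow_ne_zero p h0)]
      obtain ⟨q, rfl⟩ : ∃ q, p = q + 1 := ⟨p - 1, by omega⟩
      simp [pow_succ']
      field_simp
    rw [h1]
    exact C.mul_mem (C.pow_mem hb _) (C.algebraMap_mem ⟨_, pow_mem_pPow p _⟩)

/-- A subalgebra over `A[K^p]` is a field. -/
def toSubfield (C : Subalgebra (EGA41.pPowerSubalgebra p A K) K) : Subfield K :=
  { C.toSubring with inv_mem' := fun _ h => inv_mem_of_pPow_le p h }

lemma linearIndependent_pow_of_notMem (C : Subalgebra (EGA41.pPowerSubalgebra p A K) K) {a : K}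
    (ha : a ∉ C) : LinearIndependent C fun n : Fin p => a ^ (n : ℕ) := by
  let F : Subfield K := toSubfield p C
  have hap : a ^ p ∈ F := C.algebraMap_mem ⟨_, pow_mem_pPow p _⟩
  have hirr : Irreducible (X ^ p - Polynomial.C (⟨a ^ p, hap⟩ : F)) := by
    refine X_pow_sub_C_irreducible_of_prime (Fact.out : p.Prime) fun b hb => ha ?_
    have h2 : (b : K) ^ p = a ^ p := congrArg Subtype.val hb
    have : (b : K) = a := frobenius_inj K p h2
    exact this ▸ b.2
  have hmin : X ^ p - Polynomial.C (⟨a ^ p, hap⟩ : F) = minpoly F a :=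
    minpoly.eq_of_irreducible_of_monic hirr (by simp [Polynomial.aeval_def]; exact sub_self _)
      (monic_X_pow_sub_C _ (Fact.out : p.Prime).ne_zero)
  have hdeg : (minpoly F a).natDegree = p := by rw [← hmin, natDegree_X_pow_sub_C]
  have := (linearIndependent_pow (K := F) a).comp (Fin.cast hdeg.symm) (Fin.cast_injective _)
  exact this

lemma isPIndependent_option {ι : Type u} {x : ι → K} (hx : EGA41.IsPIndependent p A x) {a : K}
    (ha : a ∉ Algebra.adjoin (EGA41.pPowerSubalgebra p A K) (Set.range x)) :
    EGA41.IsPIndependent p A (fun o : Option ι => o.elim a x) := by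
  let P := EGA41.pPowerSubalgebra p A K
  let C := Algebra.adjoin P (Set.range x)
  let b : {e : ι →₀ ℕ // ∀ i, e i < p} → C := fun e => ⟨EGA41.pMonomial x e.1, pMonomial_mem_adjoin p x e.1⟩
  have hb : LinearIndependent P b := LinearIndependent.of_comp C.val.toLinearMap hx
  have := linearIndependent_smul hb (linearIndependent_pow_of_notMem p C ha)
  have hinj : Function.Injective (fun e : {e : Option ι →₀ ℕ // ∀ o, e o < p} =>
      ((⟨e.1.some, fun i => e.2 _⟩ : {e : ι →₀ ℕ // ∀ i, e i < p}), (⟨e.1 none, e.2 none⟩ : Fin p))) := by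
    intro e e' h
    simp only [Prod.mk.injEq, Subtype.mk.injEq, Fin.mk.injEq] at h
    refine Subtype.ext (Finsupp.ext fun o => ?_)
    cases o with
    | none => exact h.2
    | some i => exact DFunLike.congr_fun h.1 i
  have h2 := this.comp _ hinj
  unfold EGA41.IsPIndependent
  convert h2 using 1
  funext e
  simp only [Function.comp_apply, EGA41.pMonomial]
  rw [Finsupp.prod_option_index _ _ (fun _ => pow_zero _) (fun _ _ _ => pow_add _ _ _)]
  simp only [Option.elim, b, EGA41.pMonomial, Subalgebra.smul_def, smul_eq_mul]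
  ring

/-- `p`-independence of a set. -/
def SetIndep (T : Set K) : Prop := EGA41.IsPIndependent p A (Subtype.val : T → K)

lemma setIndep_insert {T : Set K} (hT : SetIndep (A := A) p T) {a : K}
    (ha : a ∉ Algebra.adjoin (EGA41.pPowerSubalgebra p A K) T) : SetIndep (A := A) p (insert a T) := by
  classical
  have h := isPIndependent_option p hT (a := a) (by rwa [Subtype.range_coe])
  let f : ↥(insert a T) → Option T := fun y =>
    if h : y.1 = a then none else some ⟨y.1, (Set.mem_insert_iff.mp y.2).resolve_left h⟩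
  have hf : ∀ y, (f y).elim a Subtype.val = y.1 := fun y => by
    by_cases h : y.1 = a <;> simp [f, h]
  have hinj : Function.Injective f := fun y y' h => Subtype.ext (by rw [← hf y, h, hf y'])
  have := isPIndependent_comp p h hinj
  unfold SetIndep
  rwa [show (fun o : Option T => o.elim a Subtype.val) ∘ f = Subtype.val from funext hf] at this

lemma setIndep_sUnion {c : Set (Set K)} (hc : DirectedOn (· ⊆ ·) c) (hne : c.Nonempty)
    (h : ∀ T ∈ c, SetIndep (A := A) p T) : SetIndep (A := A) p (⋃₀ c) := by
  classical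
  unfold SetIndep EGA41.IsPIndependent
  rw [linearIndependent_iff_finset_linearIndependent]
  intro s
  let supp : Finset K := s.biUnion fun e => e.1.support.image Subtype.val
  obtain ⟨T, hTc, hT⟩ := DirectedOn.exists_mem_subset_of_finite_of_subset_sUnion hne hc supp.finite_toSet
    (fun k hk => by
      simp only [supp, Finset.coe_biUnion, Finset.coe_image, Set.mem_iUnion, Set.mem_image] at hk
      obtain ⟨e, -, y, -, rfl⟩ := hk
      exact y.2)
  let inc : T → ↥(⋃₀ c) := fun t => ⟨t.1, Set.mem_sUnion_of_mem t.2 hTc⟩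
  have hinc : Function.Injective inc := fun a b h => Subtype.ext (congrArg (fun y : ↥(⋃₀ c) => (y : K)) h)
  have hrange : ∀ e ∈ s, ↑e.1.support ⊆ Set.range inc := fun e he y hy =>
    ⟨⟨y.1, hT (Finset.mem_biUnion.mpr ⟨e, he, Finset.mem_image_of_mem _ hy⟩)⟩, rfl⟩
  let g : s → {e : T →₀ ℕ // ∀ i, e i < p} := fun e =>
    ⟨e.1.1.comapDomain inc hinc.injOn, fun i => e.1.2 _⟩
  have hg : ∀ e : s, Finsupp.mapDomain inc (g e).1 = e.1.1 := fun e =>
    Finsupp.mapDomain_comapDomain inc hinc e.1.1 (hrange e.1 e.2)
  have hgi : Function.Injective g := fun e e' h => by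
    refine Subtype.ext (Subtype.ext ?_)
    rw [← hg e, h, hg e']
  convert (h T hTc).comp g hgi using 1
  funext e
  show EGA41.pMonomial _ e.1.1 = EGA41.pMonomial _ (g e).1
  rw [← hg e, EGA41.pMonomial, EGA41.pMonomial, Finsupp.prod_mapDomain_index_inj hinc]

lemma setIndep_empty : SetIndep (A := A) p (∅ : Set K) := by
  unfold SetIndep EGA41.IsPIndependent
  have : Unique {e : ↥(∅ : Set K) →₀ ℕ // ∀ i, e i < p} :=
    { default := ⟨0, fun i => i.2.elim⟩, uniq := fun e => Subtype.ext (Subsingleton.elim _ _) }
  rw [linearIndependent_unique_iff]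
  simp [EGA41.pMonomial, Finsupp.prod, Subsingleton.elim (_ : ↥(∅ : Set K) →₀ ℕ) 0]

/-- Maximal `p`-independent subsets. -/
lemma exists_setIndep_between (S L : Set K) (hLS : L ⊆ S) (hL : SetIndep (A := A) p L) :
    ∃ T : Set K, L ⊆ T ∧ T ⊆ S ∧ SetIndep (A := A) p T ∧ S ⊆ Algebra.adjoin (EGA41.pPowerSubalgebra p A K) T := by
  obtain ⟨T, hLT, hT⟩ := zorn_subset_nonempty {T : Set K | T ⊆ S ∧ SetIndep (A := A) p T}
    (fun c hc hchain hne => ⟨⋃₀ c, ⟨Set.sUnion_subset fun t ht => (hc ht).1,
      setIndep_sUnion p hchain.directedOn hne fun t ht => (hc ht).2⟩, fun t ht => Set.subset_sUnion_of_mem ht⟩)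
    L ⟨hLS, hL⟩
  refine ⟨T, hLT, hT.1.1, hT.1.2, fun a ha => ?_⟩
  by_contra hna
  have := hT.2 (show insert a T ∈ {T : Set K | T ⊆ S ∧ SetIndep (A := A) p T} from
    ⟨Set.insert_subset ha hT.1.1, setIndep_insert p hT.1.2 hna⟩) (Set.subset_insert a T)
  exact hna (Algebra.subset_adjoin (this (Set.mem_insert a T)))

/-- Every `p`-independent set extends to a `p`-basis inside a system of `p`-generators. -/
theorem exists_pBasis_between (S L : Set K) (hLS : L ⊆ S)
    (hS : EGA41.IsPGenerating p A (Subtype.val : S → K)) (hL : SetIndep (A := A) p L) :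
    ∃ T : Set K, L ⊆ T ∧ T ⊆ S ∧ EGA41.IsPBasis p A (Subtype.val : T → K) := by
  obtain ⟨T, hLT, hTS, hT, hST⟩ := exists_setIndep_between p S L hLS hL
  refine ⟨T, hLT, hTS, hT, (isPGenerating_iff p _).mpr ?_⟩
  rw [isPGenerating_iff, Subtype.range_coe] at hS
  rw [Subtype.range_coe, eq_top_iff, ← hS]
  exact Algebra.adjoin_le hST

lemma isPGenerating_univ : EGA41.IsPGenerating p A (Subtype.val : ↥(Set.univ : Set K) → K) := by
  rw [isPGenerating_iff, Subtype.range_coe, eq_top_iff]
  exact fun k _ => Algebra.subset_adjoin (Set.mem_univ k)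

lemma isPIndependent_iff_setIndep {ι : Type u} {x : ι → K} (hx : Function.Injective x) :
    EGA41.IsPIndependent p A x ↔ SetIndep (A := A) p (Set.range x) := by
  refine ⟨fun h => ?_, fun h => ?_⟩
  · have := isPIndependent_comp p h (Equiv.ofInjective x hx).symm.injective
    have e : x ∘ ⇑(Equiv.ofInjective x hx).symm = Subtype.val := funext fun y =>
      Equiv.apply_ofInjective_symm hx y
    rwa [e] at this
  · exact isPIndependent_comp p h (f := fun i => (⟨x i, i, rfl⟩ : Set.range x))
      fun i j hij => hx (congrArg Subtype.val hij)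

/-- The differentials of a `p`-independent family are linearly independent. -/
theorem linearIndependent_D {ι : Type u} {x : ι → K} (hx : EGA41.IsPIndependent p A x) :
    LinearIndependent K fun i => KaehlerDifferential.D A K (x i) := by
  classical
  have hinj : Function.Injective x := by
    intro i j hij
    by_contra hne
    have h1 : ∀ k : ι, ∀ l, Finsupp.single k 1 l < p := fun k l => by
      rw [Finsupp.single_apply]
      split <;> have := (Fact.out : p.Prime).one_lt <;> omega
    have hxi : Function.Injective (fun e : {e : ι →₀ ℕ // ∀ i, e i < p} => EGA41.pMonomial x e.1) :=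
      LinearIndependent.injective hx
    have := @hxi ⟨Finsupp.single i 1, h1 i⟩ ⟨Finsupp.single j 1, h1 j⟩ (by simp [EGA41.pMonomial, hij])
    exact hne (Finsupp.single_left_injective one_ne_zero (congrArg Subtype.val this))
  obtain ⟨T, hLT, -, hT⟩ := exists_pBasis_between p Set.univ (Set.range x) (Set.subset_univ _)
    (isPGenerating_univ p) ((isPIndependent_iff_setIndep p hinj).mp hx)
  obtain ⟨b, hb⟩ := exists_basis_D p hT
  have := b.linearIndependent.comp (fun i => (⟨x i, hLT ⟨i, rfl⟩⟩ : T))
    fun i j h => hinj (congrArg Subtype.val h)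
  simpa [Function.comp_def, hb] using this

/-- An element outside the `p`-closure of a family has differential outside the span. -/
lemma mem_adjoin_of_D_mem_span (S : Set K) {a : K}
    (ha : KaehlerDifferential.D A K a ∈ Submodule.span K (KaehlerDifferential.D A K '' S)) :
    a ∈ Algebra.adjoin (EGA41.pPowerSubalgebra p A K) S := by
  classical
  by_contra hna
  obtain ⟨T, -, hTS, hT, hST⟩ := exists_setIndep_between p S ∅ (Set.empty_subset _) (setIndep_empty (A := A) p)
  have hle : Algebra.adjoin (EGA41.pPowerSubalgebra p A K) T ≤ Algebra.adjoin (EGA41.pPowerSubalgebra p A K) S :=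
    Algebra.adjoin_mono hTS
  have hna' : a ∉ Algebra.adjoin (EGA41.pPowerSubalgebra p A K) T := fun h => hna (hle h)
  have hins : SetIndep (A := A) p (insert a T) := setIndep_insert p hT hna'
  have hli := linearIndependent_D p hins
  have hspan : Submodule.span K (KaehlerDifferential.D A K '' S) ≤
      Submodule.span K (KaehlerDifferential.D A K '' T) := by
    rw [Submodule.span_le]
    rintro _ ⟨s, hs, rfl⟩
    have := hST hs
    clear hs
    induction this using Algebra.adjoin_induction with
    | mem t ht => exact Submodule.subset_span ⟨t, ht, rfl⟩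
    | algebraMap c =>
      show KaehlerDifferential.D A K (c : K) ∈ _
      rw [derivation_pPow p]
      exact Submodule.zero_mem _
    | add _ _ _ _ h1 h2 => rw [map_add]; exact Submodule.add_mem _ h1 h2
    | mul _ _ _ _ h1 h2 =>
      rw [Derivation.leibniz]
      exact Submodule.add_mem _ (Submodule.smul_mem _ _ h2) (Submodule.smul_mem _ _ h1)
  have haT : a ∉ T := fun h => hna' (Algebra.subset_adjoin h)
  refine hli.notMem_span_image (s := {y : ↥(insert a T) | y.1 ∈ T}) (x := ⟨a, Set.mem_insert a T⟩) haT
    (Submodule.span_mono ?_ (hspan ha))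
  rintro _ ⟨t, ht, rfl⟩
  exact ⟨⟨t, Set.mem_insert_of_mem a ht⟩, ht, rfl⟩

/-- `p`-independence is linear independence of the differentials. -/
theorem isPIndependent_iff {ι : Type u} (x : ι → K) :
    EGA41.IsPIndependent p A x ↔ LinearIndependent K fun i => KaehlerDifferential.D A K (x i) := by
  classical
  refine ⟨linearIndependent_D p, fun h => ?_⟩
  have hinj : Function.Injective x := fun i j hij => h.injective (by simp [hij])
  obtain ⟨T, -, hTS, hT, hST⟩ :=
    exists_setIndep_between p (Set.range x) ∅ (Set.empty_subset _) (setIndep_empty (A := A) p)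
  have hTeq : Set.range x ⊆ T := by
    rintro _ ⟨i, rfl⟩
    by_contra hi
    have hmem : KaehlerDifferential.D A K (x i) ∈
        Submodule.span K ((fun j => KaehlerDifferential.D A K (x j)) '' {i}ᶜ) := by
      have h1 : x i ∈ Algebra.adjoin (EGA41.pPowerSubalgebra p A K) T := hST ⟨i, rfl⟩
      have h2 : ∀ z ∈ Algebra.adjoin (EGA41.pPowerSubalgebra p A K) T,
          KaehlerDifferential.D A K z ∈ Submodule.span K ((fun j => KaehlerDifferential.D A K (x j)) '' {i}ᶜ) := by
        intro z hz
        induction hz using Algebra.adjoin_induction with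
        | mem t ht =>
          obtain ⟨j, rfl⟩ := hTS ht
          exact Submodule.subset_span ⟨j, fun hji => hi (by rw [← (hji : j = i)]; exact ht), rfl⟩
        | algebraMap c =>
          show KaehlerDifferential.D A K (c : K) ∈ _
          rw [derivation_pPow p]
          exact Submodule.zero_mem _
        | add _ _ _ _ h1 h2 => rw [map_add]; exact Submodule.add_mem _ h1 h2
        | mul _ _ _ _ h1 h2 =>
          rw [Derivation.leibniz]
          exact Submodule.add_mem _ (Submodule.smul_mem _ _ h2) (Submodule.smul_mem _ _ h1)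
      exact h2 _ h1
    exact h.notMem_span_image (by simp) hmem
  rw [isPIndependent_iff_setIndep p hinj, subset_antisymm hTeq hTS]
  exact hT

/-- `p`-generation is generation of the differentials. -/
theorem isPGenerating_iff_span {ι : Type u} (x : ι → K) :
    EGA41.IsPGenerating p A x ↔
      Submodule.span K (Set.range fun i => KaehlerDifferential.D A K (x i)) = ⊤ := by
  refine ⟨span_D_eq_top p, fun h => (isPGenerating_iff p x).mpr (eq_top_iff.mpr fun a _ => ?_)⟩
  refine mem_adjoin_of_D_mem_span p (Set.range x) ?_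
  rw [← Set.range_comp]
  exact h ▸ Submodule.mem_top

end Groth.Agent.PBasisLib
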