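import Mathlib
import Groth.Prelude.Def_EGA41
import Groth.Agent.PBasisLib.Basic

/-!
`p`-bases when the base contains all `p`-th powers, and unramified purely inseparable algebras.
-/

set_option autoImplicit false

universe u

namespace Groth.Agent.PBasisLib

variable (p : ℕ) {A B : Type u} [CommRing A] [CommRing B] [Algebra A B]

lemma pPow_eq_bot (hpow : ∀ b : B, b ^ p ∈ Set.range (algebraMap A B)) :
    EGA41.pPowerSubalgebra p A B = ⊥ := by
  rw [eq_bot_iff, EGA41.pPowerSubalgebra, Algebra.adjoin_le_iff]
  rintro _ ⟨b, rfl⟩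
  exact Algebra.mem_bot.mpr (hpow b)

lemma exists_pre (hpow : ∀ b : B, b ^ p ∈ Set.range (algebraMap A B)) (c : EGA41.pPowerSubalgebra p A B) :
    ∃ a : A, algebraMap A B a = c := by
  obtain ⟨c, hc⟩ := c
  rw [pPow_eq_bot p hpow] at hc
  exact Algebra.mem_bot.mp hc

/-- The inverse of `A → A[B^p]` when the base contains all `p`-th powers. -/
noncomputable def preHom (hinj : Function.Injective (algebraMap A B))
    (hpow : ∀ b : B, b ^ p ∈ Set.range (algebraMap A B)) : EGA41.pPowerSubalgebra p A B →+* A where
  toFun c := (exists_pre p hpow c).choose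
  map_one' := hinj (by rw [(exists_pre p hpow 1).choose_spec]; simp)
  map_zero' := hinj (by rw [(exists_pre p hpow 0).choose_spec]; simp)
  map_mul' c d := hinj (by
    rw [map_mul, (exists_pre p hpow _).choose_spec, (exists_pre p hpow c).choose_spec,
      (exists_pre p hpow d).choose_spec]
    rfl)
  map_add' c d := hinj (by
    rw [map_add, (exists_pre p hpow _).choose_spec, (exists_pre p hpow c).choose_spec,
      (exists_pre p hpow d).choose_spec]
    rfl)

lemma algebraMap_preHom (hinj : Function.Injective (algebraMap A B))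
    (hpow : ∀ b : B, b ^ p ∈ Set.range (algebraMap A B)) (c : EGA41.pPowerSubalgebra p A B) :
    algebraMap A B (preHom p hinj hpow c) = c := (exists_pre p hpow c).choose_spec

lemma preHom_algebraMap (hinj : Function.Injective (algebraMap A B))
    (hpow : ∀ b : B, b ^ p ∈ Set.range (algebraMap A B)) (a : A) :
    preHom p hinj hpow ⟨algebraMap A B a, Subalgebra.algebraMap_mem _ a⟩ = a :=
  hinj (algebraMap_preHom p hinj hpow _)

/-- Algebra maps out of a ring with a `p`-basis over a base containing all `p`-th powers. -/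
theorem existsUnique_algHom [Fact p.Prime] (hinj : Function.Injective (algebraMap A B))
    (hpow : ∀ b : B, b ^ p ∈ Set.range (algebraMap A B)) {ι : Type u} {x : ι → B} (hx : EGA41.IsPBasis p A x)
    {E : Type*} [CommRing E] [Algebra A E] (z : ι → E)
    (hz : ∀ i a, algebraMap A B a = x i ^ p → algebraMap A E a = z i ^ p) :
    ∃! v : B →ₐ[A] E, ∀ i, v (x i) = z i := by
  obtain ⟨v, ⟨hv1, hv2⟩, huniq⟩ := existsUnique_ringHom p hx ((algebraMap A E).comp (preHom p hinj hpow)) z
    (fun i => (hz i _ (algebraMap_preHom p hinj hpow _)).symm)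
  have hA : ∀ a, v (algebraMap A B a) = algebraMap A E a := fun a => by
    rw [hv1 ⟨_, Subalgebra.algebraMap_mem _ a⟩, RingHom.comp_apply, preHom_algebraMap]
  refine ⟨{ v with commutes' := hA }, hv2, fun w hw => AlgHom.ext fun b => ?_⟩
  exact RingHom.congr_fun (huniq w.toRingHom ⟨fun c => by
    show w (c : B) = _
    rw [← algebraMap_preHom p hinj hpow c, AlgHom.commutes]
    rfl, hw⟩) b

open IsLocalRing in
/-- A formally unramified algebra of finite type all whose elements have a `q`-th power in the image of the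
base, in characteristic `p`, is a quotient of the base. -/
theorem surjective_of_formallyUnramified [Fact p.Prime] [CharP B p] [Algebra.FiniteType A B]
    [Algebra.FormallyUnramified A B] (s : ℕ) (hpow : ∀ b : B, b ^ p ^ s ∈ Set.range (algebraMap A B)) :
    Function.Surjective (algebraMap A B) := by
  have hq : 0 < p ^ s := pow_pos (Fact.out : p.Prime).pos s
  have : Algebra.IsIntegral A B := ⟨fun b => by
    obtain ⟨a, ha⟩ := hpow b
    exact IsIntegral.of_pow hq (ha ▸ isIntegral_algebraMap)⟩
  have : Module.Finite A B := Algebra.IsIntegral.finite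
  suffices h : LinearMap.range (Algebra.linearMap A B) = ⊤ from LinearMap.range_eq_top.mp h
  set N := LinearMap.range (Algebra.linearMap A B)
  by_contra hne
  have hnt : Nontrivial (B ⧸ N) := Submodule.Quotient.nontrivial_iff.mpr hne
  obtain ⟨P, hP⟩ := Module.nonempty_support_iff (R := A).mpr hnt
  obtain ⟨m, hm, hPm⟩ := Ideal.exists_le_maximal P.asIdeal P.2.ne_top
  have hm' : (⟨m, hm.isPrime⟩ : PrimeSpectrum A) ∈ Module.support A (B ⧸ N) := Module.mem_support_mono hPm hP
  have key : ∀ b : B, ∃ a : A, b - algebraMap A B a ∈ m.map (algebraMap A B) := by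
    intro b
    by_cases htop : m.map (algebraMap A B) = ⊤
    · exact ⟨0, by rw [htop]; trivial⟩
    let k := A ⧸ m
    letI : Field k := Ideal.Quotient.field m
    let R := B ⧸ m.map (algebraMap A B)
    have hnR : Nontrivial R := Ideal.Quotient.nontrivial_iff.mpr htop
    have hpowR : ∀ r : R, ∃ c : k, algebraMap k R c = r ^ p ^ s := fun r => by
      obtain ⟨b, rfl⟩ := Ideal.Quotient.mk_surjective r
      obtain ⟨a, ha⟩ := hpow b
      exact ⟨Ideal.Quotient.mk m a, by rw [← map_pow, ← ha]; rfl⟩
    have : Algebra.FormallyUnramified k R := Algebra.FormallyUnramified.of_restrictScalars A k R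
    have : Algebra.EssFiniteType k R := Algebra.EssFiniteType.of_comp A k R
    have : IsReduced R := Algebra.FormallyUnramified.isReduced_of_field k R
    have hfield : IsField R := by
      refine ⟨exists_pair_ne R, mul_comm, fun {r} hr => ?_⟩
      obtain ⟨c, hc⟩ := hpowR r
      have hc0 : c ≠ 0 := by
        rintro rfl
        exact hr (eq_zero_of_pow_eq_zero (by rw [← hc, map_zero]))
      refine isUnit_iff_exists_inv.mp ?_
      exact (isUnit_pow_iff hq.ne').mp (hc ▸ (isUnit_iff_ne_zero.mpr hc0).map (algebraMap k R))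
    letI : Field R := hfield.toField
    have : Algebra.IsSeparable k R := Algebra.FormallyUnramified.isSeparable k R
    have : CharP R p := CharP.quotient' p _ fun n hn => by
      by_contra h0
      have hdvd : ¬ p ∣ n := fun hd => h0 ((CharP.cast_eq_zero_iff B p n).mpr hd)
      have hunit : IsUnit ((n : ℕ) : B) := by
        obtain ⟨u, v, huv⟩ := Int.isCoprime_iff_gcd_eq_one.mpr
          (show Int.gcd (n : ℤ) p = 1 from (Nat.Coprime.symm ((Fact.out : p.Prime).coprime_iff_not_dvd.mpr hdvd)))
        refine isUnit_iff_exists_inv.mpr ⟨(u : B), ?_⟩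
        have := congrArg (Int.cast : ℤ → B) huv
        simpa [mul_comm] using this
      exact htop (Ideal.eq_top_of_isUnit_mem _ hn hunit)
    have : CharP k p := (RingHom.charP_iff _ (algebraMap k R).injective p).mpr this
    have : ExpChar k p := ExpChar.prime (Fact.out : p.Prime)
    have : IsPurelyInseparable k R := (isPurelyInseparable_iff_pow_mem k p).mpr fun r => by
      obtain ⟨c, hc⟩ := hpowR r
      exact ⟨s, c, hc⟩
    obtain ⟨c, hc⟩ := IsPurelyInseparable.surjective_algebraMap_of_isSeparable k R (Ideal.Quotient.mk _ b)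
    obtain ⟨a, rfl⟩ := Ideal.Quotient.mk_surjective c
    exact ⟨a, Ideal.Quotient.eq.mp hc.symm⟩
  have hsm : (⊤ : Submodule A (B ⧸ N)) ≤ m • ⊤ := fun z _ => by
    obtain ⟨b, rfl⟩ := N.mkQ_surjective z
    obtain ⟨a, ha⟩ := key b
    have h1 : N.mkQ b = N.mkQ (b - algebraMap A B a) := by
      rw [map_sub, show N.mkQ (algebraMap A B a) = 0 from (Submodule.Quotient.mk_eq_zero N).mpr ⟨a, rfl⟩, sub_zero]
    rw [h1]
    refine Submodule.smul_top_le_comap_smul_top m N.mkQ ?_
    rw [Ideal.smul_top_eq_map]
    exact ha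
  obtain ⟨r, hr1, hr0⟩ :=
    Submodule.exists_sub_one_mem_and_smul_eq_zero_of_fg_of_le_smul m ⊤ Module.Finite.fg_top hsm
  obtain ⟨z, hz⟩ := Module.mem_support_iff'.mp hm'
  exact hz r (fun hrm => hm.ne_top ((Ideal.eq_top_iff_one m).mpr (by simpa using m.sub_mem hrm hr1))) (hr0 z trivial)

end Groth.Agent.PBasisLib
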